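import Groth.Agent.CliffCover.Sect
import Groth.Agent.CurveBC.Etale
import Groth.Agent.CurveCohLib.Clifford
import Groth.Agent.Synt29.CotangentQI
import Groth.Agent.CurveHurwitz.Basic

/-!
# Linear systems pulled back along covers of curves

The number of sections of a nondegenerate pullback of `O(1)` and the bounds forced on a linear system
which factors through a finite flat cover.
-/

set_option autoImplicit false
set_option linter.style.haveILetI false
set_option linter.unusedSectionVars false
set_option backward.isDefEq.respectTransparency false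
set_option backward.isDefEq.respectTransparency.types false
set_option maxHeartbeats 1000000
set_option synthInstance.maxHeartbeats 400000

universe u

open CategoryTheory CategoryTheory.Limits AlgebraicGeometry

noncomputable section

namespace Groth.Agent.CliffCover

variable (k : Type u) [Field k] {X Y : Scheme.{u}} [X.Over (Spec (CommRingCat.of k))]
  [Y.Over (Spec (CommRingCat.of k))]

theorem pullSect_eq_zero_comp {Z : Scheme.{u}} (f : X ⟶ Y) (g : Y ⟶ Z) (M : Z.Modules) (m : LinSer.Sect Z M)
    (h : OmegaSh.pullSect g M ⊤ m = 0) : OmegaSh.pullSect (f ≫ g) M ⊤ m = 0 := by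
  have h1 := Synt29.CotangentQI.pullbackComp_inv_pullSect f g M ⊤ m
  rw [h, map_zero] at h1
  exact (map_eq_zero_iff _ (ConcreteCategory.bijective_of_isIso
    (((Scheme.Modules.pullbackComp f g).inv.app M).app ((f ≫ g) ⁻¹ᵁ ⊤))).1).1 h1

variable [IsIntegral X] [IsIntegral Y] [IsProper (X ↘ Spec (CommRingCat.of k))]
  [IsProper (Y ↘ Spec (CommRingCat.of k))]

theorem coverDeg_eq (f : X ⟶ Y) [IsFinite f] [Flat f] [LocallyOfFinitePresentation f] {a : ℕ}
    (ha : ∀ y : Y, Scheme.Hom.finrank f y = a) : CurveBC.coverDeg f = a := by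
  obtain ⟨U, hU, hy, ⟨l⟩⟩ := H23.CoverPush.crit_of_isFinLocFreeOfRank_push f
    (CurveBC.isFinLocFreeOfRank_push f) (genericPoint Y)
  letI := H23.CoverPush.alg f U
  haveI : Module.Free Γ(Y, U) Γ(X, f ⁻¹ᵁ U) := Module.Free.of_equiv l.symm
  haveI : Module.Finite Γ(Y, U) Γ(X, f ⁻¹ᵁ U) := Module.Finite.equiv l.symm
  haveI : Nontrivial Γ(Y, U) := (Y.presheaf.germ U (genericPoint Y) hy).hom.domain_nontrivial
  rw [← ha (genericPoint Y), H23.CoverPush.finrank_eq f hU hy, Module.rankAtStalk_eq_finrank_of_free,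
    Pi.natCast_apply, l.finrank_eq, Module.finrank_finsupp_self, Fintype.card_ulift, Fintype.card_fin]
  rfl

/-- A linear system factoring through a cover of degree `a` has degree `a` times a degree `m` which is
at least `r + γ` or at least `2 r`. -/
theorem exists_deg [IsAlgClosed k] (hdim : topologicalKrullDim X = 1) (hdimY : topologicalKrullDim Y = 1)
    (f : X ⟶ Y) [IsFinite f] [Flat f] (hf : f ≫ (Y ↘ Spec (CommRingCat.of k)) = X ↘ Spec (CommRingCat.of k))
    {a : ℕ} (ha : ∀ y : Y, Scheme.Hom.finrank f y = a) {r : ℕ} (h : Y ⟶ CohB1.ProjSpace r k)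
    (hh : h ≫ CohB1.ProjSpace.toSpec r k = Y ↘ Spec (CommRingCat.of k))
    (hnd : ∀ s : LinSer.Sect (CohB1.ProjSpace r k) (Twist.twistProjSpace r k 1), s ≠ 0 →
      OmegaSh.pullSect (f ≫ h) (Twist.twistProjSpace r k 1) ⊤ s ≠ 0) :
    ∃ m : ℤ, Curv2.deg k X ((Scheme.Modules.pullback (f ≫ h)).obj (Twist.twistProjSpace r k 1)) 1 = a * m ∧
      ((r : ℤ) + Curv2.genus k Y ≤ m ∨ 2 * (r : ℤ) ≤ m) := by
  haveI := CurveCohLib.isNoetherian_of_proper (k := k) (X := X)
  haveI := CurveCohLib.isNoetherian_of_proper (k := k) (X := Y)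
  haveI : LocallyOfFinitePresentation (f ≫ (Y ↘ Spec (CommRingCat.of k))) := by rw [hf]; infer_instance
  haveI : LocallyOfFinitePresentation f :=
    AlgSpPts.locallyOfFinitePresentation_of_comp f (Y ↘ Spec (CommRingCat.of k))
  let N := (Scheme.Modules.pullback h).obj (Twist.twistProjSpace r k 1)
  have hN : PicF.IsInvertible N := PicClLib.isInvertible_pullback h (isInvertible_twist k r)
  refine ⟨Curv2.deg k Y N 1, ?_, ?_⟩
  · rw [← coverDeg_eq f ha, ← CurveBC.deg_pullback k f hdimY hf hN]
    exact CurveRR.deg_congr k ((Scheme.Modules.pullbackComp f h).symm.app _) 1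
  · exact CurveCohLib.Clifford.dichotomy k hdimY hN (m := r)
      (le_h0_of_nondeg k r h hh fun s hs h0 => hnd s hs (pullSect_eq_zero_comp f h _ s h0))

end Groth.Agent.CliffCover
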